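import Cfsg.Agent.Ep.Defs
import Cfsg.Agent.S3494
import Cfsg.Agent.S3495

/-! Insoluble extremely primitive groups of affine type (S3521): passage to the linear form. -/

set_option autoImplicit false

namespace CL.Ep

open MulAction Subgroup

universe u v

theorem fin_trans {G : Type u} [Group G] {Ω : Type v} [MulAction G Ω] [FaithfulSMul G Ω] [IsPreprimitive G Ω]
    (N : Subgroup G) [N.Normal] (hN : N ≠ ⊥) : IsPretransitive N Ω :=
  IsQuasiPreprimitive.isPretransitive_of_normal (G := G) fun e => hN (eq_bot_iff.2 fun n hn =>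
    eq_of_smul_eq_smul (α := Ω) fun x => ((e.ge (Set.mem_univ x)) ⟨n, hn⟩).trans (one_smul G x).symm)

theorem s3521_of (p2 : P2.{u}) (as : AS.{u}) {G : Type u} [Group G] [Finite G] {Ω : Type v} [Fintype Ω]
    [MulAction G Ω] [FaithfulSMul G Ω] (p d : ℕ) (hp : p.Prime) (hcard : Fintype.card Ω = p ^ d)
    (hsol : ¬ Group.IsSolvable G) (N : Subgroup G) [N.Normal] (hN : N ≠ ⊥) (hNc : IsMulCommutative N)
    (hNreg : ∀ ω : Ω, MulAction.stabilizer N ω = ⊥) (hprim : MulAction.IsPreprimitive G Ω)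
    (hH : ∀ α : Ω, MulAction.stabilizer G α ≠ ⊥)
    (hep : ∀ (α : Ω) (ω : Ω), MulAction.IsPreprimitive (MulAction.stabilizer G α)
      (MulAction.orbit (MulAction.stabilizer G α) ω)) (α : Ω) :
    p = 2 ∧ (¬ MulAction.IsMultiplyPretransitive G Ω 2 → ∃ T : Subgroup (MulAction.stabilizer G α), T.Normal ∧
      IsSimpleGroup T ∧ ¬ IsMulCommutative T ∧ Subgroup.centralizer (T : Set (MulAction.stabilizer G α)) = ⊥) := by
  have tr := fin_trans (Ω := Ω) N hN
  have inj : ∀ a b : N, (a : G) • α = (b : G) • α → a = b := fun a b e =>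
    (inv_mul_eq_one.1 ((hNreg α).le (show a⁻¹ * b ∈ stabilizer N α from by
      rw [mem_stabilizer_iff, mul_smul, inv_smul_eq_iff]; exact e.symm)))
  have bij : Function.Bijective fun n : N => (n : G) • α := ⟨inj, fun ω => tr.exists_smul_eq α ω⟩
  have cN : Nat.card N = p ^ d := (Nat.card_eq_of_bijective _ bij).trans (Nat.card_eq_fintype_card.trans hcard)
  have cm : ∀ a ∈ N, ∀ b ∈ N, a * b = b * a := fun a ha b hb =>
    congrArg Subtype.val (hNc.is_comm.comm (⟨a, ha⟩ : N) ⟨b, hb⟩)
  have hNp : ∀ n ∈ N, n ^ p = 1 := by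
    let K : Subgroup G :=
      { carrier := {n | n ∈ N ∧ n ^ p = 1}
        mul_mem' := fun {a b} ha hb => ⟨mul_mem ha.1 hb.1, by
          rw [Commute.mul_pow (cm a ha.1 b hb.1), ha.2, hb.2, one_mul]⟩
        one_mem' := ⟨one_mem N, one_pow p⟩
        inv_mem' := fun {a} ha => ⟨inv_mem ha.1, by rw [inv_pow, ha.2, inv_one]⟩ }
    have : K.Normal := ⟨fun n hn g => ⟨Normal.conj_mem inferInstance n hn.1 g, by rw [conj_pow, hn.2]; simp⟩⟩
    have : Fact p.Prime := ⟨hp⟩
    obtain ⟨x, hx⟩ := exists_prime_orderOf_dvd_card' (G := N) p (cN ▸ dvd_pow_self p fun e => hN (by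
      rw [e, pow_zero] at cN; exact card_eq_one.1 cN))
    have tK := fin_trans (Ω := Ω) K fun e => hp.ne_one (hx.symm.trans (orderOf_eq_one_iff.2 (Subtype.ext
      (e.le (show (x : G) ∈ K from ⟨x.2, congrArg Subtype.val (hx ▸ pow_orderOf_eq_one x)⟩)))))
    intro n hn
    obtain ⟨k, hk⟩ := tK.exists_smul_eq α (n • α)
    exact (show (k : G) = n from congrArg Subtype.val (inj ⟨k, k.2.1⟩ ⟨n, hn⟩ hk)) ▸ k.2.2
  letI : CommGroup N := { (inferInstance : Group N) with mul_comm := hNc.is_comm.comm }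
  letI : DistribMulAction (stabilizer G α) (Additive N) :=
    { smul := fun h x => Additive.ofMul (MulAut.conjNormal (h : G) x.toMul)
      one_smul := fun x => Subtype.ext (show (1 : G) * (x.toMul : G) * (1 : G)⁻¹ = x.toMul by simp)
      mul_smul := fun a b x => Subtype.ext (show ((a : G) * b) * (x.toMul : G) * ((a : G) * b)⁻¹ =
        a * (b * (x.toMul : G) * (b : G)⁻¹) * (a : G)⁻¹ by group)
      smul_zero := fun a => Subtype.ext (show (a : G) * 1 * (a : G)⁻¹ = 1 by simp)
      smul_add := fun a x y => Subtype.ext (show (a : G) * ((x.toMul : G) * y.toMul) * (a : G)⁻¹ =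
        a * (x.toMul : G) * (a : G)⁻¹ * (a * (y.toMul : G) * (a : G)⁻¹) by group) }
  have eqv : ∀ (h : stabilizer G α) (x : Additive N), ((h • x).toMul : G) • α = h • ((x.toMul : G) • α) :=
    fun h x => show ((h : G) * (x.toMul : G) * (h : G)⁻¹) • α = (h : G) • ((x.toMul : G) • α) by
      rw [mul_smul, mul_smul, inv_smul_eq_iff.2 h.2.symm]
  have ep : EP (stabilizer G α) (Additive N) := by
    refine ⟨?_, fun v hv h hh => ?_, fun v => ?_, fun M hM hM' L hL => ?_, fun hs => hsol ?_⟩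
    · obtain ⟨x, hx⟩ := ne_bot_iff_exists_ne_one.1 hN
      exact ⟨Additive.ofMul x, hx⟩
    · refine Cfsg.Agent.S3494.result hprim hH hep α ((v.toMul : G) • α)
        (fun e => hv (inj v.toMul 1 (e.trans (one_smul G α).symm))) h ?_
      rintro _ ⟨g, rfl⟩
      exact (congrArg (h • ·) (eqv g v).symm).trans ((eqv h _).symm.trans (by rw [hh _ ⟨g, rfl⟩]; exact eqv g v))
    · let f : MulActionHom (id : stabilizer G α → stabilizer G α) (orbit (stabilizer G α) v)
          (orbit (stabilizer G α) ((v.toMul : G) • α)) :=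
        { toFun := fun x => ⟨(x.1.toMul : G) • α, by obtain ⟨_, g, rfl⟩ := x; exact ⟨g, (eqv g v).symm⟩⟩
          map_smul' := fun g x => Subtype.ext (eqv g x.1) }
      refine (isPreprimitive_congr (f := f) Function.surjective_id ⟨fun a b e => Subtype.ext
        (inj _ _ (congrArg Subtype.val e)), ?_⟩).2 (hep α _)
      rintro ⟨_, g, rfl⟩
      exact ⟨⟨g • v, g, rfl⟩, Subtype.ext (eqv g v)⟩
    · have := (Cfsg.Agent.S3495.result hprim hH hep N hNc p hp hNp tr hNreg α (M.map (Subgroup.subtype _))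
        (fun e => hM' ((map_eq_bot_iff_of_injective _ (subtype_injective _)).1 e)) (map_subtype_le _)
        (fun g hg => mem_normalizer_fintype (by
          rintro _ ⟨m, hm, rfl⟩
          exact ⟨_, hM.conj_mem m hm ⟨g, hg⟩, rfl⟩))).2 ((AddSubgroup.toSubgroup' L).map N.subtype) (map_subtype_le _) (by
          rintro _ ⟨m, hm, rfl⟩
          refine mem_normalizer_fintype ?_
          rintro _ ⟨x, hx, rfl⟩
          exact ⟨_, hL m hm (Additive.ofMul x) hx, rfl⟩)
      refine this.imp (fun e => eq_bot_iff.2 fun x hx => ?_) fun e => eq_top_iff.2 fun x _ => ?_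
      · exact Subtype.ext (e.le ⟨x.toMul, hx, rfl⟩)
      · obtain ⟨y, hy, e'⟩ := e.ge x.toMul.2
        obtain rfl : y = x.toMul := Subtype.ext e'
        exact hy
    · have : Group.IsSolvable (G ⧸ N) := Group.isSolvable_of_surjective
        (f := (QuotientGroup.mk' N).comp (stabilizer G α).subtype) fun q => by
          obtain ⟨g, rfl⟩ := QuotientGroup.mk_surjective q
          obtain ⟨n, hn⟩ := tr.exists_smul_eq α (g⁻¹ • α)
          exact ⟨⟨g * n, by rw [mem_stabilizer_iff, mul_smul]; exact smul_eq_iff_eq_inv_smul g |>.2 hn⟩,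
            QuotientGroup.mk_mul_of_mem g n.2⟩
      exact Group.isSolvable_of_ker_le_range N.subtype (QuotientGroup.mk' N) (by simp)
  have e2 := p2 _ _ p ep hp fun x => Subtype.ext (hNp _ x.toMul.2)
  subst e2
  exact ⟨rfl, fun _ => as _ _ ep fun x => Subtype.ext ((pow_two _).symm.trans (hNp _ x.toMul.2))⟩

end CL.Ep
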